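import Mathlib.CategoryTheory.Sites.Pullback

/-! The unit of the constructed inverse image of sheaves. -/

set_option autoImplicit false
open CategoryTheory CategoryTheory.Limits Opposite
namespace EtH0Lib

/-- The unit of the constructed adjunction. -/
theorem constructed_unit {C D : Type*} [Category* C] [Category* D] (G : C ⥤ D) {A : Type*} [Category* A]
    (J : GrothendieckTopology C) (K : GrothendieckTopology D) [Functor.IsContinuous G J K]
    [∀ (F : Cᵒᵖ ⥤ A), G.op.HasLeftKanExtension F] [HasWeakSheafify K A] (F : Sheaf J A) :
    (sheafToPresheaf J A).map ((Functor.sheafPullbackConstruction.sheafAdjunctionContinuous G A J K).unit.app F) =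
      (G.op.lanAdjunction A).unit.app F.obj ≫ Functor.whiskerLeft G.op (toSheafify K (G.op.lan.obj F.obj)) := by
  delta Functor.sheafPullbackConstruction.sheafAdjunctionContinuous
  erw [Adjunction.map_restrictFullyFaithful_unit_app]
  simp
  congr 1
  ext X
  simp
  all_goals exact congrArg (_ ≫ ·) (Category.comp_id _) |>.trans (Category.comp_id _)

end EtH0Lib
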