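import Mathlib.Topology.Sheaves.Functors
import Mathlib.Topology.Sheaves.Stalks
import Mathlib.Topology.Sheaves.Sheafify
import Mathlib.CategoryTheory.Sites.Pullback
import Groth.Agent.EtH0Lib.PullUnit

/-!
# Stalks and sections of inverse images of sheaves of sets
-/

set_option autoImplicit false
set_option linter.style.haveILetI false
set_option backward.isDefEq.respectTransparency false
set_option backward.isDefEq.respectTransparency.types false
universe u

open CategoryTheory CategoryTheory.Limits TopologicalSpace Opposite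

namespace EtH0Lib

theorem sheafPullback_unit {C D : Type*} [Category* C] [Category* D] (G : C ⥤ D) {A : Type*} [Category* A]
    (J : GrothendieckTopology C) (K : GrothendieckTopology D) [Functor.IsContinuous G J K]
    [∀ (F : Cᵒᵖ ⥤ A), G.op.HasLeftKanExtension F] [HasWeakSheafify K A] (F : Sheaf J A) :
    ((G.sheafAdjunctionContinuous A J K).unit.app F).hom =
      (G.op.lanAdjunction A).unit.app F.obj ≫ Functor.whiskerLeft G.op (toSheafify K (G.op.lan.obj F.obj)) ≫
        Functor.whiskerLeft G.op ((Functor.sheafPullbackConstruction.sheafPullbackIso G A J K).app F).inv.hom := by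
  let B := Functor.sheafPullbackConstruction.sheafAdjunctionContinuous G A J K
  have h : (G.sheafAdjunctionContinuous A J K).unit.app F = B.unit.app F ≫ (G.sheafPushforwardContinuous A J K).map
      ((Functor.sheafPullbackConstruction.sheafPullbackIso G A J K).app F).inv :=
    (Iso.eq_comp_inv ((G.sheafPushforwardContinuous A J K).mapIso
      ((Functor.sheafPullbackConstruction.sheafPullbackIso G A J K).app F))).2
      (Adjunction.unit_leftAdjointUniq_hom_app _ B F)
  have hB := constructed_unit G (A := A) J K F
  rw [h]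
  show (sheafToPresheaf J A).map (B.unit.app F) ≫ Functor.whiskerLeft G.op _ = _
  rw [hB, Category.assoc]
  rfl

variable {X Y : TopCat.{u}} (f : X ⟶ Y) (F : TopCat.Sheaf (Type u) Y)

/-- The inverse image of a section. -/
noncomputable def pullSec (V : Opens Y) (t : F.obj.obj (op V)) :
    ((TopCat.Sheaf.pullback (Type u) f).obj F).obj.obj (op ((Opens.map f).obj V)) :=
  ((TopCat.Sheaf.pullbackPushforwardAdjunction (Type u) f).unit.app F).hom.app (op V) t

/-- The map on stalks. -/
noncomputable def pullStalk (x : X) :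
    TopCat.Presheaf.stalk F.obj (f x) ⟶ TopCat.Presheaf.stalk ((TopCat.Sheaf.pullback (Type u) f).obj F).obj x :=
  (TopCat.Presheaf.stalkFunctor (Type u) (f x)).map
      ((TopCat.Sheaf.pullbackPushforwardAdjunction (Type u) f).unit.app F).hom ≫
    TopCat.Presheaf.stalkPushforward (Type u) f _ x

theorem pullStalk_germ (x : X) (V : Opens Y) (hV : f x ∈ V) (t : F.obj.obj (op V)) :
    pullStalk f F x (TopCat.Presheaf.germ F.obj V (f x) hV t) =
      TopCat.Presheaf.germ ((TopCat.Sheaf.pullback (Type u) f).obj F).obj ((Opens.map f).obj V) x hV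
        (pullSec f F V t) := by
  have h1 := TopCat.Presheaf.stalkFunctor_map_germ (C := Type u) V (f x) hV
    ((TopCat.Sheaf.pullbackPushforwardAdjunction (Type u) f).unit.app F).hom
  have h2 := TopCat.Presheaf.stalkPushforward_germ (Type u) f ((TopCat.Sheaf.pullback (Type u) f).obj F).obj V x hV
  exact (congrArg (fun w => TopCat.Presheaf.stalkPushforward (Type u) f
    ((TopCat.Sheaf.pullback (Type u) f).obj F).obj x w) (ConcreteCategory.congr_hom h1 t)).trans
    (ConcreteCategory.congr_hom h2 _)

theorem bijective_pullStalk (x : X) : Function.Bijective (pullStalk f F x) := by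
  let i := (Functor.sheafPullbackConstruction.sheafPullbackIso (Opens.map f) (Type u)
    (Opens.grothendieckTopology Y) (Opens.grothendieckTopology X)).app F
  let F' := (TopCat.Presheaf.pullback (Type u) f).obj F.obj
  let η : F' ⟶ (presheafToSheaf (Opens.grothendieckTopology X) (Type u) |>.obj F').obj :=
    toSheafify (Opens.grothendieckTopology X) F'
  have hu : ∀ (V : Opens Y) (t : F.obj.obj (op V)), pullSec f F V t =
      i.inv.hom.app _ (η.app _ (((TopCat.Presheaf.pullbackPushforwardAdjunction (Type u) f).unit.app F.obj).app _ t)) :=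
    fun V t => congrArg (fun m => (ConcreteCategory.hom (NatTrans.app m (op V))) t)
      (sheafPullback_unit (Opens.map f) (Opens.grothendieckTopology Y) (Opens.grothendieckTopology X) F)
  have key : pullStalk f F x = TopCat.Presheaf.stalkPullbackHom (Type u) f F.obj x ≫
      (TopCat.Presheaf.stalkFunctor (Type u) x).map η ≫ (TopCat.Presheaf.stalkFunctor (Type u) x).map i.inv.hom := by
    refine TopCat.Presheaf.stalk_hom_ext _ fun V hV => ?_
    ext t
    show pullStalk f F x (TopCat.Presheaf.germ F.obj V (f x) hV t) = _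
    rw [pullStalk_germ, hu]
    have h1 := TopCat.Presheaf.germ_stalkPullbackHom (C := Type u) f F.obj x V hV
    refine Eq.symm ?_
    refine (congrArg _ (congrArg _ (ConcreteCategory.congr_hom h1 t))).trans ?_
    refine (congrArg _ (TopCat.Presheaf.stalkFunctor_map_germ_apply _ x hV η _)).trans ?_
    exact TopCat.Presheaf.stalkFunctor_map_germ_apply _ x hV i.inv.hom _
  haveI : IsIso (TopCat.Presheaf.stalkPullbackHom (Type u) f F.obj x) :=
    (TopCat.Presheaf.stalkPullbackIso (Type u) f F.obj x).isIso_hom
  haveI : IsIso ((TopCat.Presheaf.stalkFunctor (Type u) x).map η) :=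
    TopCat.Presheaf.stalkFunctor_map_unit_toSheafify_isIso x (Type u) F'
  haveI : IsIso i.inv.hom := inferInstanceAs (IsIso ((sheafToPresheaf _ _).map i.inv))
  haveI : IsIso (pullStalk f F x) := by rw [key]; infer_instance
  exact (isIso_iff_bijective _).1 inferInstance

theorem germ_pullSec_eq_iff (x : X) (V W : Opens Y) (hV : f x ∈ V) (hW : f x ∈ W) (s : F.obj.obj (op V))
    (t : F.obj.obj (op W)) :
    TopCat.Presheaf.germ ((TopCat.Sheaf.pullback (Type u) f).obj F).obj ((Opens.map f).obj V) x hV (pullSec f F V s) =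
      TopCat.Presheaf.germ ((TopCat.Sheaf.pullback (Type u) f).obj F).obj ((Opens.map f).obj W) x hW (pullSec f F W t) ↔
    TopCat.Presheaf.germ F.obj V (f x) hV s = TopCat.Presheaf.germ F.obj W (f x) hW t := by
  rw [← pullStalk_germ, ← pullStalk_germ]
  exact (bijective_pullStalk f F x).1.eq_iff

/-- Every germ of the inverse image comes from a section. -/
theorem exists_germ_pullSec (x : X) (U : Opens X) (hU : x ∈ U)
    (s : ((TopCat.Sheaf.pullback (Type u) f).obj F).obj.obj (op U)) :
    ∃ (V : Opens Y) (hV : f x ∈ V) (t : F.obj.obj (op V)),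
      TopCat.Presheaf.germ ((TopCat.Sheaf.pullback (Type u) f).obj F).obj U x hU s =
        TopCat.Presheaf.germ ((TopCat.Sheaf.pullback (Type u) f).obj F).obj ((Opens.map f).obj V) x hV
          (pullSec f F V t) := by
  obtain ⟨a, ha⟩ := (bijective_pullStalk f F x).2
    (TopCat.Presheaf.germ ((TopCat.Sheaf.pullback (Type u) f).obj F).obj U x hU s)
  obtain ⟨V, hV, t, rfl⟩ := TopCat.Presheaf.germ_exist F.obj a
  exact ⟨V, hV, t, by rw [← ha, pullStalk_germ]⟩

/-- Compatible local sections give a section of the inverse image. -/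
theorem exists_section_of_agree {ι : Type u} (U : ι → Opens Y) (σ : ∀ a, F.obj.obj (op (U a)))
    (hcov : ∀ x : X, ∃ a, f x ∈ U a)
    (hagree : ∀ (x : X) (a b : ι) (ha : f x ∈ U a) (hb : f x ∈ U b),
      TopCat.Presheaf.germ F.obj (U a) (f x) ha (σ a) = TopCat.Presheaf.germ F.obj (U b) (f x) hb (σ b)) :
    ∃ s : ((TopCat.Sheaf.pullback (Type u) f).obj F).obj.obj (op ⊤), ∀ (x : X) (a : ι) (ha : f x ∈ U a),
      TopCat.Presheaf.germ ((TopCat.Sheaf.pullback (Type u) f).obj F).obj ⊤ x trivial s =
        TopCat.Presheaf.germ ((TopCat.Sheaf.pullback (Type u) f).obj F).obj ((Opens.map f).obj (U a)) x ha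
          (pullSec f F (U a) (σ a)) := by
  let G := (TopCat.Sheaf.pullback (Type u) f).obj F
  obtain ⟨s, hs, -⟩ := G.existsUnique_gluing' (fun a => (Opens.map f).obj (U a)) ⊤ (fun a => homOfLE le_top)
    (fun x _ => Opens.mem_iSup.2 (hcov x)) (fun a => pullSec f F (U a) (σ a)) (fun a b => by
      refine TopCat.Presheaf.section_ext G _ _ _ fun x hx => ?_
      rw [TopCat.Presheaf.germ_res_apply, TopCat.Presheaf.germ_res_apply]
      exact (germ_pullSec_eq_iff f F x _ _ hx.1 hx.2 _ _).2 (hagree x a b hx.1 hx.2))
  refine ⟨s, fun x a ha => ?_⟩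
  rw [← hs a, TopCat.Presheaf.germ_res_apply]

end EtH0Lib
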