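import Groth.Agent.EtH0Lib.TopBij
import Groth.Agent.ProperClopenLib.HenselGeneral
import Groth.Agent.ProperClopenLib.Components
import Mathlib.AlgebraicGeometry.IdealSheaf.Functorial
import Mathlib.AlgebraicGeometry.PullbackCarrier

/-!
# Sheaves on the space of a proper scheme over a henselian pair
-/

set_option autoImplicit false
set_option linter.style.haveILetI false
set_option backward.isDefEq.respectTransparency false
universe u

open CategoryTheory CategoryTheory.Limits AlgebraicGeometry Opposite

namespace EtH0Lib

variable {A : Type u} [CommRing A] (I : Ideal A) [HenselianRing A I] {X : Scheme.{u}}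
  (f : X ⟶ Spec (CommRingCat.of A)) [IsProper f]

theorem isConnected_fibre_inter_closure (x : X) :
    _root_.IsConnected (Set.range (pullback.fst f (Spec.map (CommRingCat.ofHom (Ideal.Quotient.mk I)))) ∩ closure {x}) := by
  let j := Spec.map (CommRingCat.ofHom (Ideal.Quotient.mk I))
  let K := Scheme.IdealSheafData.vanishingIdeal (X := X) ⟨closure {x}, isClosed_closure⟩
  let ι := K.subschemeι
  have hr : Set.range ι = closure {x} := by
    rw [Scheme.IdealSheafData.range_subschemeι, Scheme.IdealSheafData.coe_support_vanishingIdeal]
    rfl
  let g := ι ≫ f
  have hl := ProperClopenLib.lifts_fst g I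
  haveI : ConnectedSpace ↥K.subscheme := by
    have hc : _root_.IsConnected (Set.range ι) := hr ▸ isIrreducible_singleton.closure.isConnected
    haveI := Subtype.connectedSpace hc
    exact ι.isClosedEmbedding.isEmbedding.toHomeomorph.symm.surjective.connectedSpace
      ι.isClosedEmbedding.isEmbedding.toHomeomorph.symm.continuous
  haveI := (hl.connectedSpace_iff (pullback.fst g j).continuous).1 inferInstance
  have he : Set.range (pullback.fst f j) ∩ closure {x} = ι '' Set.range (pullback.fst g j) := by
    rw [Scheme.Pullback.range_fst, Scheme.Pullback.range_fst, ← hr]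
    ext y
    constructor
    · rintro ⟨hy, w, rfl⟩
      exact ⟨w, hy, rfl⟩
    · rintro ⟨w, hw, rfl⟩
      exact ⟨hw, w, rfl⟩
  rw [he]
  exact (isConnected_range (pullback.fst g j).continuous).image _ ι.continuous.continuousOn

/-- Sections of sheaves of sets on a proper scheme over a henselian pair restrict bijectively to the closed subset. -/
theorem bijOn_of_proper :
    BijOn (X := X.carrier) (Set.range (pullback.fst f (Spec.map (CommRingCat.ofHom (Ideal.Quotient.mk I))))) := by
  haveI : CompactSpace X := QuasiCompact.compactSpace_of_compactSpace f
  haveI : QuasiSeparatedSpace X := quasiSeparatedSpace_of_quasiSeparated f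
  haveI : SpectralSpace X := {}
  haveI : IsClosedImmersion (Spec.map (CommRingCat.ofHom (Ideal.Quotient.mk I))) :=
    IsClosedImmersion.spec_of_surjective _ Ideal.Quotient.mk_surjective
  exact bijOn_of_connected (pullback.fst f _).isClosedEmbedding.isClosed_range (isConnected_fibre_inter_closure I f)

end EtH0Lib
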