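import Groth.Agent.EtH0Lib.Etale
import Groth.Agent.EtH0Lib.Proper
import Groth.Agent.EtDescentLib.Unit
import Groth.Agent.EtDescentLib.Fpqc

/-!
# Global sections of étale sheaves on closed subschemes
-/

set_option autoImplicit false
set_option linter.style.haveILetI false
set_option linter.unusedSectionVars false
set_option backward.isDefEq.respectTransparency false
set_option backward.isDefEq.respectTransparency.types false
universe u

open CategoryTheory CategoryTheory.Limits AlgebraicGeometry Opposite EtDescentLib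

namespace EtH0Lib

theorem bijective_unit_of_bijOn {Z X : Scheme.{u}} [CompactSpace X] [QuasiSeparatedSpace X] (i : Z ⟶ X)
    [IsClosedImmersion i] [EtCoh.BCCont i]
    (h2 : ∀ (X' : Scheme.{u}) (π : X' ⟶ X) [IsFinite π], BijOn (X := X'.carrier) (π ⁻¹' Set.range i))
    (F : EtCoh.Ab X) :
    Function.Bijective (((EtCoh.pullPushAdj i).unit.app F).hom.app (op (EtCoh.top X))) :=
  EtDescentLib.bijective_unit_top i F (bijective_map_of_bijOn (hasGerms_piEtPull X F) i h2)

theorem bijOn_preimage_of_proper {A : Type u} [CommRing A] (I : Ideal A) [HenselianRing A I] {X : Scheme.{u}}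
    (f : X ⟶ Spec (CommRingCat.of A)) [IsProper f] {Z : Scheme.{u}} (i : Z ⟶ X)
    (hi : Set.range i = f ⁻¹' Set.range (Spec.map (CommRingCat.ofHom (Ideal.Quotient.mk I))))
    (X' : Scheme.{u}) (π : X' ⟶ X) [IsFinite π] : BijOn (X := X'.carrier) (π ⁻¹' Set.range i) := by
  have h := bijOn_of_proper I (π ≫ f)
  have e : Set.range (pullback.fst (π ≫ f) (Spec.map (CommRingCat.ofHom (Ideal.Quotient.mk I)))) = π ⁻¹' Set.range i := by
    rw [Scheme.Pullback.range_fst, hi]
    rfl
  rwa [e] at h

theorem bijective_unit_of_proper {A : Type u} [CommRing A] (I : Ideal A) [HenselianRing A I] {X : Scheme.{u}}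
    (f : X ⟶ Spec (CommRingCat.of A)) [IsProper f] {Z : Scheme.{u}} (i : Z ⟶ X) [IsClosedImmersion i] [EtCoh.BCCont i]
    (hi : Set.range i = f ⁻¹' Set.range (Spec.map (CommRingCat.ofHom (Ideal.Quotient.mk I))))
    (F : EtCoh.Ab X) :
    Function.Bijective (((EtCoh.pullPushAdj i).unit.app F).hom.app (op (EtCoh.top X))) := by
  haveI : CompactSpace X := QuasiCompact.compactSpace_of_compactSpace f
  haveI : QuasiSeparatedSpace X := quasiSeparatedSpace_of_quasiSeparated f
  exact bijective_unit_of_bijOn i (bijOn_preimage_of_proper I f i hi) F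

end EtH0Lib
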