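import Groth.Agent.EtH0Lib.TopPull
import Mathlib.Topology.Sheaves.LocalPredicate
import Mathlib.Topology.Spectral.Prespectral
import Mathlib.Topology.Spectral.ConstructibleTopology
import Mathlib.Topology.Spectral.Basic
import Mathlib.Topology.QuasiSeparated

/-!
# Gluing along a subspace
-/

set_option autoImplicit false
set_option linter.style.haveILetI false
set_option backward.isDefEq.respectTransparency false
universe u v

open CategoryTheory CategoryTheory.Limits TopologicalSpace Opposite Topology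

namespace EtH0Lib

/-- Local data with an open equivalence relation of agreement. -/
structure Agreement (X : Type u) [TopologicalSpace X] (ι : Type v) where
  /-- The opens. -/
  U : ι → Opens X
  /-- Agreement at a point. -/
  R : ι → ι → X → Prop
  isOpen : ∀ a b, IsOpen {y | y ∈ U a ∧ y ∈ U b ∧ R a b y}
  refl : ∀ a, ∀ y ∈ U a, R a a y
  symm : ∀ a b y, y ∈ U a → y ∈ U b → R a b y → R b a y
  trans : ∀ a b c y, y ∈ U a → y ∈ U b → y ∈ U c → R a b y → R b c y → R a c y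

/-- The data covers `Z` and agrees along it. -/
structure Agreement.IsGoodOn {X : Type u} [TopologicalSpace X] {ι : Type v} (D : Agreement X ι) (Z : Set X) : Prop where
  cover : ∀ z ∈ Z, ∃ a, z ∈ D.U a
  agree : ∀ z ∈ Z, ∀ a b, z ∈ D.U a → z ∈ D.U b → D.R a b z

/-- Restricted data covering everything and agreeing everywhere. -/
def Agreement.Spreads {X : Type u} [TopologicalSpace X] {ι : Type v} (D : Agreement X ι) : Prop :=
  ∃ V : ι → Opens X, (∀ a, V a ≤ D.U a) ∧ (∀ y, ∃ a, y ∈ V a) ∧ ∀ a b y, y ∈ V a → y ∈ V b → D.R a b y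

section spectral

variable {X : Type u} [TopologicalSpace X]

/-- Points lying in every quasi-compact neighbourhood specialise into the set. -/
theorem exists_specializes_of_forall [PrespectralSpace X] {W : Set X} (hW : IsCompact W) {O : Set X} (hO : IsOpen O)
    (hWO : W ⊆ O) (p : X) (hp : ∀ U : Set X, IsOpen U → IsCompact U → W ⊆ U → U ⊆ O → p ∈ U) :
    ∃ w ∈ W, p ⤳ w := by
  by_contra hemp
  push Not at hemp
  have hsub : ∀ z ∈ W, ∃ U : Set X, IsOpen U ∧ IsCompact U ∧ z ∈ U ∧ U ⊆ (closure {p})ᶜ ∩ O := by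
    intro z hz
    obtain ⟨U, ⟨hUo, hUc⟩, hzU, hU⟩ := PrespectralSpace.isTopologicalBasis.exists_subset_of_mem_open
      (a := z) (u := (closure {p})ᶜ ∩ O)
      ⟨fun h => hemp z hz (specializes_iff_mem_closure.2 h), hWO hz⟩ (isClosed_closure.isOpen_compl.inter hO)
    exact ⟨U, hUo, hUc, hzU, hU⟩
  choose U hUo hUc hzU hU using hsub
  obtain ⟨t, ht⟩ := hW.elim_finite_subcover (fun z : W => U z.1 z.2) (fun z => hUo z.1 z.2)
    (fun z hz => Set.mem_iUnion.2 ⟨⟨z, hz⟩, hzU z hz⟩)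
  obtain ⟨z, hz⟩ := Set.mem_iUnion.1 (hp (⋃ i ∈ t, U i.1 i.2)
    (isOpen_biUnion fun i _ => hUo _ _) (t.isCompact_biUnion fun i _ => hUc _ _) ht
    (Set.iUnion₂_subset fun i _ => (hU _ _).trans Set.inter_subset_right))
  obtain ⟨hzt, hpz⟩ := Set.mem_iUnion.1 hz
  exact (hU _ _ hpz).1 (subset_closure rfl)

theorem isOpen_constructible_of_isOpen [PrespectralSpace X] {E : Set X} (hE : IsOpen E) :
    IsOpen[constructibleTopology X] E := by
  have : E = ⋃ B ∈ {B : Set X | IsOpen B ∧ IsCompact B ∧ B ⊆ E}, B := by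
    refine Set.Subset.antisymm (fun x hx => ?_) (Set.iUnion₂_subset fun B hB => hB.2.2)
    obtain ⟨B, ⟨hBo, hBc⟩, hxB, hBE⟩ := PrespectralSpace.isTopologicalBasis.exists_subset_of_mem_open hx hE
    exact Set.mem_biUnion (show B ∈ {B : Set X | IsOpen B ∧ IsCompact B ∧ B ⊆ E} from ⟨hBo, hBc, hBE⟩) hxB
  rw [this]
  exact @isOpen_biUnion X _ (constructibleTopology X) _ _ fun B hB =>
    hB.2.1.isOpen_constructibleTopology_of_isOpen hB.1

/-- Agreement on a closed subset meeting all closures of points in connected sets spreads out. -/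
theorem Agreement.spreads_of_connected [SpectralSpace X] {ι : Type v} [Finite ι] (D : Agreement X ι) {Z : Set X}
    (hZ : IsClosed Z) (hconn : ∀ x : X, IsConnected (Z ∩ closure {x})) (hUc : ∀ a, IsCompact (D.U a : Set X))
    (hD : D.IsGoodOn Z) : D.Spreads := by
  classical
  haveI := Fintype.ofFinite ι
  let W : ι → Set X := fun a => Z ∩ (D.U a : Set X)
  have hWc : ∀ a, IsCompact (W a) := fun a => (hUc a).inter_left hZ
  -- points which generise two of the traces agree there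
  have hgen : ∀ a b y, (∃ w ∈ W a, y ⤳ w) → (∃ w ∈ W b, y ⤳ w) → D.R a b y := by
    rintro a b y ⟨w, hw, hyw⟩ ⟨w', hw', hyw'⟩
    have hy : y ∈ D.U a := hyw.mem_open (D.U a).2 hw.2
    have hy' : y ∈ D.U b := hyw'.mem_open (D.U b).2 hw'.2
    by_contra hne
    let A : Set X := ⋃ c ∈ {c | y ∈ D.U c ∧ D.R a c y}, (D.U c : Set X)
    let B : Set X := ⋃ c ∈ {c | y ∈ D.U c ∧ ¬ D.R a c y}, (D.U c : Set X)
    obtain ⟨z, ⟨hzZ, hzc⟩, hzA, hzB⟩ := (hconn y).isPreconnected A B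
      (isOpen_biUnion fun c _ => (D.U c).2) (isOpen_biUnion fun c _ => (D.U c).2)
      (fun z hz => by
        obtain ⟨c, hc⟩ := hD.cover z hz.1
        have hyc : y ∈ D.U c := (specializes_iff_mem_closure.2 hz.2).mem_open (D.U c).2 hc
        by_cases h : D.R a c y
        · exact Or.inl (Set.mem_biUnion (show c ∈ {c | y ∈ D.U c ∧ D.R a c y} from ⟨hyc, h⟩) hc)
        · exact Or.inr (Set.mem_biUnion (show c ∈ {c | y ∈ D.U c ∧ ¬ D.R a c y} from ⟨hyc, h⟩) hc))
      ⟨w, ⟨hw.1, hyw.mem_closure⟩,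
        Set.mem_biUnion (show a ∈ {c | y ∈ D.U c ∧ D.R a c y} from ⟨hy, D.refl a y hy⟩) hw.2⟩
      ⟨w', ⟨hw'.1, hyw'.mem_closure⟩,
        Set.mem_biUnion (show b ∈ {c | y ∈ D.U c ∧ ¬ D.R a c y} from ⟨hy', hne⟩) hw'.2⟩
    obtain ⟨c, ⟨hyc, hc⟩, hzc'⟩ := Set.mem_iUnion₂.1 hzA
    obtain ⟨d, ⟨hyd, hd⟩, hzd⟩ := Set.mem_iUnion₂.1 hzB
    refine hd (D.trans a c d y hy hyc hyd hc ?_)
    exact ((specializes_iff_mem_closure.2 hzc).mem_open (D.isOpen c d) ⟨hzc', hzd, hD.agree z hzZ c d hzc' hzd⟩).2.2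
  -- quasi-compact opens between the traces and the opens
  let P : ι → Type u := fun a => {O : Set X // IsOpen O ∧ IsCompact O ∧ W a ⊆ O ∧ O ⊆ D.U a}
  have key : ∀ a b, ∃ (O : P a) (O' : P b), ∀ y ∈ O.1 ∩ O'.1, D.R a b y := by
    intro a b
    by_contra hcon
    push Not at hcon
    let E : Set X := {y | y ∈ D.U a ∧ y ∈ D.U b ∧ D.R a b y}
    haveI : Nonempty (P a × P b) := ⟨⟨⟨_, (D.U a).2, hUc a, Set.inter_subset_right, subset_rfl⟩,
      ⟨_, (D.U b).2, hUc b, Set.inter_subset_right, subset_rfl⟩⟩⟩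
    let C : P a × P b → Set (WithConstructibleTopology X) := fun i => {t | t.ofTopology ∈ i.1.1 ∩ i.2.1 ∩ Eᶜ}
    have hcl : ∀ i, IsClosed (C i) := fun i => by
      rw [WithConstructibleTopology.isClosed_iff]
      have hk : IsCompact ((i.1.1 ∩ i.2.1)ᶜᶜ) := by
        rw [compl_compl]
        exact QuasiSeparatedSpace.inter_isCompact _ _ i.1.2.1 i.1.2.2.1 i.2.2.1 i.2.2.2.1
      refine (@isOpen_compl_iff X (i.1.1 ∩ i.2.1 ∩ Eᶜ) (constructibleTopology X)).1 ?_
      rw [Set.compl_inter, compl_compl]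
      exact @IsOpen.union X _ _ (constructibleTopology X)
        (hk.isOpen_constructibleTopology_of_isClosed (i.1.2.1.inter i.2.2.1).isClosed_compl)
        (isOpen_constructible_of_isOpen (D.isOpen a b))
    have hdir : Directed (fun p q => q ⊆ p) C := by
      intro p q
      refine ⟨(⟨p.1.1 ∩ q.1.1, p.1.2.1.inter q.1.2.1,
          QuasiSeparatedSpace.inter_isCompact _ _ p.1.2.1 p.1.2.2.1 q.1.2.1 q.1.2.2.1,
          Set.subset_inter p.1.2.2.2.1 q.1.2.2.2.1, Set.inter_subset_left.trans p.1.2.2.2.2⟩,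
        ⟨p.2.1 ∩ q.2.1, p.2.2.1.inter q.2.2.1,
          QuasiSeparatedSpace.inter_isCompact _ _ p.2.2.1 p.2.2.2.1 q.2.2.1 q.2.2.2.1,
          Set.subset_inter p.2.2.2.2.1 q.2.2.2.2.1, Set.inter_subset_left.trans p.2.2.2.2.2⟩),
        fun t ht => ⟨⟨ht.1.1.1, ht.1.2.1⟩, ht.2⟩, fun t ht => ⟨⟨ht.1.1.2, ht.1.2.2⟩, ht.2⟩⟩
    obtain ⟨t, ht⟩ := IsCompact.nonempty_iInter_of_directed_nonempty_isCompact_isClosed C hdir
      (fun i => by
        obtain ⟨p, hp, hR⟩ := hcon i.1 i.2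
        exact ⟨WithTopology.toTopology _ p, hp, fun h => hR h.2.2⟩)
      (fun i => (hcl i).isCompact) hcl
    rw [Set.mem_iInter] at ht
    let O₀ : P a := ⟨_, (D.U a).2, hUc a, Set.inter_subset_right, subset_rfl⟩
    let O₀' : P b := ⟨_, (D.U b).2, hUc b, Set.inter_subset_right, subset_rfl⟩
    refine (ht (O₀, O₀')).2 ⟨(ht (O₀, O₀')).1.1, (ht (O₀, O₀')).1.2, hgen a b _
      (exists_specializes_of_forall (hWc a) (D.U a).2 Set.inter_subset_right _ fun U h1 h2 h3 h4 =>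
        (ht (⟨U, h1, h2, h3, h4⟩, O₀')).1.1)
      (exists_specializes_of_forall (hWc b) (D.U b).2 Set.inter_subset_right _ fun U h1 h2 h3 h4 =>
        (ht (O₀, ⟨U, h1, h2, h3, h4⟩)).1.2)⟩
  choose O O' hO using key
  refine ⟨fun a => ⟨((D.U a : Set X) ∩ ⋂ b, (O a b).1) ∩ ⋂ b, (O' b a).1,
    ((D.U a).2.inter (isOpen_iInter_of_finite fun b => (O a b).2.1)).inter
      (isOpen_iInter_of_finite fun b => (O' b a).2.1)⟩, fun a y hy => hy.1.1, fun y => ?_,
    fun a b y ha hb => hO a b y ⟨Set.mem_iInter.1 ha.1.2 b, Set.mem_iInter.1 hb.2 a⟩⟩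
  obtain ⟨z, hz, hzy⟩ := (hconn y).nonempty
  obtain ⟨a, ha⟩ := hD.cover z hz
  have hyz : y ⤳ z := specializes_iff_mem_closure.2 hzy
  exact ⟨a, ⟨hyz.mem_open (D.U a).2 ha, Set.mem_iInter.2 fun b => hyz.mem_open (O a b).2.1 ((O a b).2.2.2.1 ⟨hz, ha⟩)⟩,
    Set.mem_iInter.2 fun b => hyz.mem_open (O' b a).2.1 ((O' b a).2.2.2.1 ⟨hz, ha⟩)⟩

end spectral

section sheaf

variable {X : TopCat.{u}} {ι : Type u}

/-- Classes of indices at a point. -/
def Cls (D : Agreement X ι) (y : X) : Type u :=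
  Quot fun a b : {a // y ∈ D.U a} => D.R a.1 b.1 y

/-- Locally constant choices of classes. -/
def clsPred (D : Agreement X ι) : TopCat.PrelocalPredicate (Cls D) where
  pred {W} s := ∃ a, ∀ x : W, ∃ h : x.1 ∈ D.U a, s x = Quot.mk _ ⟨a, h⟩
  res := by
    rintro U V i s ⟨a, ha⟩
    exact ⟨a, fun x => ha (i x)⟩

/-- The sheaf of classes of indices. -/
noncomputable def clsSheaf (D : Agreement X ι) : TopCat.Sheaf (Type u) X :=
  TopCat.subsheafToTypes (clsPred D).sheafify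

theorem cls_mk_eq (D : Agreement X ι) {y : X} {a b : {a // y ∈ D.U a}}
    (h : (Quot.mk _ a : Cls D y) = Quot.mk _ b) : D.R a.1 b.1 y := by
  have := Quot.eqvGen_exact h
  clear h
  induction this with
  | rel a b hab => exact hab
  | refl a => exact D.refl _ _ a.2
  | symm a b _ ih => exact D.symm _ _ _ a.2 b.2 ih
  | trans a b c _ _ ih1 ih2 => exact D.trans _ _ _ _ a.2 b.2 c.2 ih1 ih2

/-- Restriction to a subspace is bijective for all sheaves of sets. -/
def BijOn (X : TopCat.{u}) (Z : Set X) : Prop :=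
  ∀ F : TopCat.Sheaf (Type u) X, Function.Bijective
    (((TopCat.Sheaf.pullbackPushforwardAdjunction (Type u)
      (TopCat.ofHom ⟨(Subtype.val : Z → X), continuous_subtype_val⟩)).unit.app F).hom.app (op ⊤))

theorem BijOn.spreads {Z : Set X} (hbij : BijOn X Z) (D : Agreement X ι) (hD : D.IsGoodOn Z) : D.Spreads := by
  let F := clsSheaf D
  let f : TopCat.of Z ⟶ X := TopCat.ofHom ⟨(Subtype.val : Z → X), continuous_subtype_val⟩
  let σ : ∀ a, F.obj.obj (op (D.U a)) := fun a =>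
    ⟨fun x => Quot.mk _ ⟨a, x.2⟩, fun x => ⟨D.U a, x.2, 𝟙 _, a, fun y => ⟨y.2, rfl⟩⟩⟩
  obtain ⟨s, -⟩ := exists_section_of_agree f F D.U σ (fun x => hD.cover x.1 x.2) (fun x a b ha hb => by
    refine TopCat.Presheaf.germ_ext F.obj ⟨_, D.isOpen a b⟩ ⟨ha, hb, hD.agree x.1 x.2 a b ha hb⟩
      (homOfLE fun y hy => hy.1) (homOfLE fun y hy => hy.2.1) (Subtype.ext (funext fun y => ?_))
    exact Quot.sound y.2.2.2)
  obtain ⟨t, -⟩ := (hbij F).2 s
  refine ⟨fun a => ⨆ W : {W : Opens X // ∀ y ∈ W, ∃ h : y ∈ D.U a, t.1 ⟨y, trivial⟩ = Quot.mk _ ⟨a, h⟩}, W.1,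
    fun a y hy => ?_, fun y => ?_, fun a b y ha hb => ?_⟩
  · obtain ⟨W, hW⟩ := Opens.mem_iSup.1 hy
    exact (W.2 y hW).1
  · obtain ⟨W, hyW, i, a, ha⟩ := t.2 ⟨y, trivial⟩
    exact ⟨a, Opens.mem_iSup.2 ⟨⟨W, fun y' hy' => ha ⟨y', hy'⟩⟩, hyW⟩⟩
  · obtain ⟨W, hW⟩ := Opens.mem_iSup.1 ha
    obtain ⟨W', hW'⟩ := Opens.mem_iSup.1 hb
    obtain ⟨h, e⟩ := W.2 y hW
    obtain ⟨h', e'⟩ := W'.2 y hW'
    exact cls_mk_eq D (a := ⟨a, h⟩) (b := ⟨b, h'⟩) (e.symm.trans e')

theorem BijOn.eq_univ {Z : Set X} (hbij : BijOn X Z) {O : Set X} (hO : IsOpen O) (hZ : Z ⊆ O) :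
    O = Set.univ := by
  let D : Agreement X PUnit.{u + 1} :=
    { U := fun _ => ⟨O, hO⟩
      R := fun _ _ _ => True
      isOpen := fun _ _ => by simpa using hO
      refl := fun _ _ _ => trivial
      symm := fun _ _ _ _ _ _ => trivial
      trans := fun _ _ _ _ _ _ _ _ _ => trivial }
  obtain ⟨V, hV, hcov, -⟩ := hbij.spreads D ⟨fun z hz => ⟨PUnit.unit, hZ hz⟩, fun _ _ _ _ _ _ => trivial⟩
  exact Set.eq_univ_of_forall fun y => (hcov y).elim fun a ha => hV a ha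

end sheaf

end EtH0Lib
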