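import Groth.Agent.EtH0Lib.Cover
import Groth.Agent.EtDescentLib.Core
import Groth.Agent.FinSurjLib.Main
import Groth.Agent.ProperClopenLib.Sigma

/-!
# Gabber's criterion for global sections of étale sheaves on closed subschemes
-/

set_option autoImplicit false
set_option linter.style.haveILetI false
set_option linter.unusedSectionVars false
set_option backward.isDefEq.respectTransparency false
universe u v

open CategoryTheory CategoryTheory.Limits AlgebraicGeometry Opposite EtDescentLib

namespace EtH0Lib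

variable {S Z : Scheme.{u}}

theorem toTop_eq {G : Over S} (a b : G ⟶ Over.mk (𝟙 S)) : a = b :=
  Over.OverMorphism.ext ((Category.comp_id _).symm.trans ((Over.w a).trans ((Over.w b).symm.trans (Category.comp_id _))))

/-- The chosen map to the terminal object. -/
abbrev toTop (T : Over S) : T ⟶ Over.mk (𝟙 S) := Over.homMk T.hom (Category.comp_id _)

variable {P : (Over S)ᵒᵖ ⥤ Type v}

theorem exists_etale_nhd (hP : HasGerms P) (i : Z ⟶ S) [IsClosedImmersion i] (σ : P.obj (op (Over.mk i))) (z : Z) :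
    ∃ (W : Over S) (_ : Etale W.hom) (t : P.obj (op W)), i z ∈ Set.range W.hom.base ∧
      ∀ (G : Over S) (c : G ⟶ Over.mk i) (d : G ⟶ W), IsGeo G.left → P.map c.op σ = P.map d.op t := by
  obtain ⟨G, a, hG, ha⟩ := exists_geo_at (Over.mk i) z
  obtain ⟨W, h, hh, b, t, -, ht⟩ := hP.exists_germ (a ≫ toTop _) hG (P.map a.op σ)
  haveI := hh
  haveI : Etale W.hom := by
    have e : h.left = W.hom := (Category.comp_id _).symm.trans (Over.w h)
    rw [← e]; infer_instance
  let W_Z : Over S := Over.mk (pullback.fst i W.hom ≫ i)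
  let p₁ : W_Z ⟶ Over.mk i := Over.homMk (pullback.fst i W.hom) rfl
  let p₂ : W_Z ⟶ W := Over.homMk (pullback.snd i W.hom) pullback.condition.symm
  let E := eqLocus W_Z (P.map p₁.op σ) (P.map p₂.op t)
  haveI : IsClosedImmersion p₂.left := inferInstanceAs (IsClosedImmersion (pullback.snd i W.hom))
  obtain ⟨O, hO, hOE⟩ := p₂.left.isClosedEmbedding.isInducing.isOpen_iff.1 (isOpen_eqLocus W_Z (P.map p₁.op σ) (P.map p₂.op t))
  let V : W.left.Opens := ⟨O, hO⟩
  let W' : Over S := Over.mk (V.ι ≫ W.hom)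
  let jW : W' ⟶ W := Over.homMk V.ι rfl
  let c₀ : G ⟶ W_Z := Over.homMk (pullback.lift a.left b.left ((Over.w a).trans (Over.w b).symm)) (by
    show _ ≫ pullback.fst i W.hom ≫ i = _
    rw [pullback.lift_fst_assoc]
    exact Over.w a)
  obtain ⟨y⟩ := hG.nonempty
  have hmem : c₀.left y ∈ E := hP.mem_eqLocus c₀ hG (by
    rw [← map_comp_apply', ← map_comp_apply',
      show c₀ ≫ p₁ = a from Over.OverMorphism.ext (pullback.lift_fst _ _ _),
      show c₀ ≫ p₂ = b from Over.OverMorphism.ext (pullback.lift_snd _ _ _), ht]) y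
  have hby : b.left y ∈ O := by
    have : c₀.left y ∈ p₂.left ⁻¹' O := hOE.symm ▸ hmem
    rw [Set.mem_preimage, ← Scheme.Hom.comp_apply] at this
    rwa [show c₀.left ≫ p₂.left = b.left from pullback.lift_snd _ _ _] at this
  refine ⟨W', inferInstanceAs (Etale (V.ι ≫ W.hom)), P.map jW.op t, ⟨⟨b.left y, hby⟩, ?_⟩, fun G' c d hG' => ?_⟩
  · show W.hom (b.left y) = i z
    rw [← Scheme.Hom.comp_apply, Over.w b, ← ha y]
    exact congrArg (fun m : G.left ⟶ S => m y) (Over.w a).symm
  · let d' := d ≫ jW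
    let c' : G' ⟶ W_Z := Over.homMk (pullback.lift c.left d'.left ((Over.w c).trans (Over.w d').symm)) (by
      show _ ≫ pullback.fst i W.hom ≫ i = _
      rw [pullback.lift_fst_assoc]
      exact Over.w c)
    obtain ⟨y'⟩ := hG'.nonempty
    have hz : c'.left y' ∈ E := by
      show c'.left y' ∈ eqLocus W_Z (P.map p₁.op σ) (P.map p₂.op t)
      rw [← hOE, Set.mem_preimage, ← Scheme.Hom.comp_apply,
        show c'.left ≫ p₂.left = d'.left from pullback.lift_snd _ _ _]
      exact (d.left y').2
    have key := eq_of_mem_eqLocus hz c' hG' fun y'' => by rw [hG'.subsingleton y'' y']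
    rw [← map_comp_apply', ← map_comp_apply', show c' ≫ p₁ = c from Over.OverMorphism.ext (pullback.lift_fst _ _ _),
      show c' ≫ p₂ = d' from Over.OverMorphism.ext (pullback.lift_snd _ _ _), map_comp_apply'] at key
    exact key

theorem exists_surjective_etale (hP : HasGerms P) [CompactSpace S] (i : Z ⟶ S) [IsClosedImmersion i]
    (h : ∀ O : Set S, IsOpen O → Set.range i ⊆ O → O = Set.univ) (σ : P.obj (op (Over.mk i))) :
    ∃ (W : Over S) (_ : Etale W.hom) (_ : Surjective W.hom) (t : P.obj (op W)),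
      ∀ (G : Over S) (c : G ⟶ Over.mk i) (d : G ⟶ W), IsGeo G.left → P.map c.op σ = P.map d.op t := by
  choose W hW t hz ht using exists_etale_nhd hP i σ
  haveI := hW
  have hO : ∀ z, IsOpen (Set.range (W z).hom.base) := fun z => (W z).hom.isOpenMap.isOpen_range
  have hcov : (⋃ z, Set.range (W z).hom.base) = Set.univ :=
    h _ (isOpen_iUnion hO) (by rintro _ ⟨z, rfl⟩; exact Set.mem_iUnion.2 ⟨z, hz z⟩)
  obtain ⟨T, hT⟩ := isCompact_univ.elim_finite_subcover (fun z => Set.range (W z).hom.base) hO hcov.ge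
  let desc := Sigma.desc fun k : T => (W k.1).hom
  haveI : Etale desc := IsZariskiLocalAtSource.sigmaDesc (P := @Etale) fun k => inferInstance
  let U : Over S := Over.mk desc
  let inc : ∀ k : T, W k.1 ⟶ U := fun k => Over.homMk (Sigma.ι (fun k : T => (W k.1).left) k) (Sigma.ι_desc _ _)
  have hinc : ∀ k, Etale (inc k).left := fun k =>
    inferInstanceAs (Etale (Sigma.ι (fun k : T => (W k.1).left) k))
  haveI := hinc
  have hsur : ∀ w : U.left, ∃ k q, (inc k).left q = w := fun w => by
    obtain ⟨⟨k, q⟩, hq⟩ := (sigmaMk (fun k : T => (W k.1).left)).surjective w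
    exact ⟨k, q, (sigmaMk_mk (fun k : T => (W k.1).left) k q).symm.trans hq⟩
  obtain ⟨tU, htU⟩ := hP.exists_glue (fun k : T => W k.1) inc hinc hsur (fun k => t k.1) fun k k' G a b hG hab => by
    obtain ⟨y⟩ := hG.nonempty
    obtain rfl : k = k' := ProperClopenLib.eq_of_sigmaι_eq (fun k : T => (W k.1).left) (a := a.left y) (b := b.left y)
      (congrArg (fun m : G ⟶ U => m.left y) hab)
    rw [show a = b from Over.OverMorphism.ext
      ((cancel_mono (Sigma.ι (fun k : T => (W k.1).left) k)).1 (congrArg CommaMorphism.left hab))]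
  refine ⟨U, ‹Etale desc›, ⟨fun s => ?_⟩, tU, fun G c d hG => ?_⟩
  · obtain ⟨z, hzT, q, hq⟩ := Set.mem_iUnion₂.1 (hT (Set.mem_univ s))
    exact ⟨(inc ⟨z, hzT⟩).left q, by rw [← Scheme.Hom.comp_apply, Over.w]; exact hq⟩
  · obtain ⟨y⟩ := hG.nonempty
    obtain ⟨k, q, hq⟩ := hsur (d.left y)
    obtain ⟨d', rfl, -⟩ := exists_lift (inc k) d hG q fun y' => by rw [hG.subsingleton y' y, hq]
    rw [map_comp_apply', htU]
    exact ht k.1 G c d' hG

/-- Sections restrict bijectively to a closed subscheme when this holds topologically on all finite schemes over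
the base. -/
theorem bijective_map_of_bijOn (hP : HasGerms P) [CompactSpace S] [QuasiSeparatedSpace S] (i : Z ⟶ S)
    [IsClosedImmersion i]
    (h2 : ∀ (X' : Scheme.{u}) (π : X' ⟶ S) [IsFinite π], BijOn (X := X'.carrier) (π ⁻¹' Set.range i)) :
    Function.Bijective (P.map (Over.homMk i : Over.mk i ⟶ Over.mk (𝟙 S)).op) := by
  have h1 : ∀ O : Set S, IsOpen O → Set.range i ⊆ O → O = Set.univ := fun O hO hZ =>
    (h2 S (𝟙 S)).eq_univ (X := S.carrier) hO hZ
  let j : Over.mk i ⟶ Over.mk (𝟙 S) := Over.homMk i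
  refine ⟨fun s t hst => ?_, fun σ => ?_⟩
  · have hu := h1 (eqLocus (Over.mk (𝟙 S)) s t) (isOpen_eqLocus _ _ _) (by
      rintro _ ⟨z, rfl⟩
      obtain ⟨G, a, hG, ha⟩ := exists_geo_at (Over.mk i) z
      obtain ⟨y⟩ := hG.nonempty
      have := hP.mem_eqLocus (a ≫ j) hG (s := s) (t := t)
        (by rw [map_comp_apply', map_comp_apply']; exact congrArg _ hst) y
      rwa [show (a ≫ j).left y = i z from congrArg i (ha y)] at this)
    refine hP.ext fun G a hG => ?_
    obtain ⟨y⟩ := hG.nonempty
    exact eq_of_mem_eqLocus (hu ▸ Set.mem_univ (a.left y)) a hG fun y' => by rw [hG.subsingleton y' y]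
  · obtain ⟨W, hW, hWs, t, ht⟩ := exists_surjective_etale hP i h1 σ
    haveI := hW; haveI := hWs
    obtain ⟨S', π, hπs, hπf, -, hloc⟩ := FinSurjLib.exists_finite_cover W.hom
    haveI := hπs; haveI := hπf
    choose V hV hmem hVW using hloc
    let T' : Over S := Over.mk π
    let Vo : S' → Over S := fun a => Over.mk ((V a).ι ≫ π)
    let jv : ∀ a, Vo a ⟶ T' := fun a => Over.homMk (V a).ι rfl
    let hy : ∀ a, Vo a ⟶ W := fun a => Over.homMk (hV a) (hVW a)
    let τ : ∀ a, P.obj (op (Vo a)) := fun a => P.map (hy a).op t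
    have hjv : ∀ a, Etale (jv a).left := fun a => inferInstanceAs (Etale (V a).ι)
    haveI := hjv
    have hτ : ∀ (a : S') (G : Over S) (c : G ⟶ Over.mk i) (d : G ⟶ Vo a), IsGeo G.left →
        P.map c.op σ = P.map d.op (τ a) := fun a G c d hG => by
      rw [← map_comp_apply']
      exact ht G c _ hG
    have hmono : ∀ (a : S') {G : Over S} (c d : G ⟶ Vo a), c ≫ jv a = d ≫ jv a → c = d := fun a G c d h =>
      Over.OverMorphism.ext ((cancel_mono (V a).ι).1 (congrArg CommaMorphism.left h))
    let R : S' → S' → S' → Prop := fun a b p => ∀ (G : Over S) (c : G ⟶ Vo a) (d : G ⟶ Vo b), IsGeo G.left →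
      c ≫ jv a = d ≫ jv b → (∀ q, (c ≫ jv a).left q = p) → P.map c.op (τ a) = P.map d.op (τ b)
    let D : Agreement S' S' :=
      { U := V
        R := R
        isOpen := fun a b => by
          let Vab : Over S := Over.mk ((V a ⊓ V b).ι ≫ π)
          let ra : Vab ⟶ Vo a := Over.homMk (S'.homOfLE (inf_le_left : V a ⊓ V b ≤ V a)) (by
            show _ ≫ (V a).ι ≫ π = _
            rw [Scheme.homOfLE_ι_assoc]; rfl)
          let rb : Vab ⟶ Vo b := Over.homMk (S'.homOfLE (inf_le_right : V a ⊓ V b ≤ V b)) (by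
            show _ ≫ (V b).ι ≫ π = _
            rw [Scheme.homOfLE_ι_assoc]; rfl)
          haveI : Etale ra.left := inferInstanceAs (Etale (S'.homOfLE (inf_le_left : V a ⊓ V b ≤ V a)))
          have hra : ra.left ≫ (V a).ι = (V a ⊓ V b).ι := S'.homOfLE_ι (inf_le_left : V a ⊓ V b ≤ V a)
          have hrb : rb.left ≫ (V b).ι = (V a ⊓ V b).ι := S'.homOfLE_ι (inf_le_right : V a ⊓ V b ≤ V b)
          have hr : ra ≫ jv a = rb ≫ jv b := Over.OverMorphism.ext (hra.trans hrb.symm)
          have hset : {p : S' | p ∈ V a ∧ p ∈ V b ∧ R a b p} =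
              (V a ⊓ V b).ι '' eqLocus Vab (P.map ra.op (τ a)) (P.map rb.op (τ b)) := by
            ext p
            constructor
            · rintro ⟨ha, hb, hR⟩
              obtain ⟨G, c, hG, hc⟩ := exists_geo_at Vab (⟨p, ha, hb⟩ : (V a ⊓ V b : S'.Opens))
              obtain ⟨y⟩ := hG.nonempty
              refine ⟨c.left y, hP.mem_eqLocus c hG ?_ y, congrArg (V a ⊓ V b).ι (hc y)⟩
              refine (map_comp_apply' c ra _).symm.trans (Eq.trans ?_ (map_comp_apply' c rb _))
              refine hR G (c ≫ ra) (c ≫ rb) hG (by rw [Category.assoc, Category.assoc, hr]) fun q => ?_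
              show (ra.left ≫ (V a).ι) (c.left q) = p
              rw [hra, hc]
              rfl
            · rintro ⟨q, hq, rfl⟩
              refine ⟨q.2.1, q.2.2, fun G c d hG hcd hpt => ?_⟩
              obtain ⟨c', rfl, hc'⟩ := exists_lift ra c hG q fun y => (V a).ι.isOpenEmbedding.injective (by
                refine (hpt y).trans ?_
                show (V a ⊓ V b).ι q = (ra.left ≫ (V a).ι) q
                rw [hra]
                rfl)
              rw [show d = c' ≫ rb from hmono b _ _ (by rw [← hcd, Category.assoc, Category.assoc, hr]),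
                map_comp_apply', map_comp_apply']
              exact eq_of_mem_eqLocus hq c' hG hc'
          rw [hset]
          exact (V a ⊓ V b).ι.isOpenEmbedding.isOpenMap _ (isOpen_eqLocus _ _ _)
        refl := fun a p _ G c d _ hcd _ => by rw [hmono a c d hcd]
        symm := fun a b p _ _ h G c d hG hcd hpt => (h G d c hG hcd.symm fun q => hcd ▸ hpt q).symm
        trans := fun a b k p _ hb _ h h' G c d hG hcd hpt => by
          obtain ⟨m, hm, -⟩ := exists_lift (jv b) (c ≫ jv a) hG ⟨p, hb⟩ hpt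
          exact (h G c m hG hm.symm hpt).trans (h' G m d hG (hm.trans hcd) fun q => by rw [hm]; exact hpt q) }
    obtain ⟨V', hV', hcov, hR⟩ := (h2 S' π).spreads (X := S'.carrier) D
      ⟨fun p _ => ⟨p, hmem p⟩, fun p ⟨z, hz⟩ a b ha hb G c d hG hcd hpt => by
        obtain ⟨y⟩ := hG.nonempty
        obtain ⟨G', e, a', hG', -, -⟩ := exists_extension j (c ≫ jv a ≫ toTop T') hG z fun y' => by
          rw [← Category.assoc]
          show π ((c ≫ jv a).left y') = i z
          rw [hpt, hz]
        apply hP.injective e hG' hG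
        exact (map_comp_apply' _ _ _).symm.trans ((hτ a G' a' (e ≫ c) hG').symm.trans
          ((hτ b G' a' (e ≫ d) hG').trans (map_comp_apply' _ _ _)))⟩
    -- glue and descend
    let Vo' : S' → Over S := fun a => Over.mk ((Scheme.Opens.ι (X := S') (V' a)) ≫ π)
    let jv' : ∀ a, Vo' a ⟶ T' := fun a => Over.homMk (Scheme.Opens.ι (X := S') (V' a)) rfl
    let r' : ∀ a, Vo' a ⟶ Vo a := fun a => Over.homMk (S'.homOfLE (hV' a)) (by
      show _ ≫ (V a).ι ≫ π = _
      rw [Scheme.homOfLE_ι_assoc]; rfl)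
    have hr' : ∀ a, r' a ≫ jv a = jv' a := fun a => Over.OverMorphism.ext (S'.homOfLE_ι (hV' a : V' a ≤ V a))
    have hjv' : ∀ a, Etale (jv' a).left := fun a => inferInstanceAs (Etale (Scheme.Opens.ι (X := S') (V' a)))
    haveI := hjv'
    have hsur' : ∀ p : S', ∃ a q, (jv' a).left q = p := fun p => by
      obtain ⟨a, ha⟩ := hcov p
      exact ⟨a, ⟨p, ha⟩, rfl⟩
    obtain ⟨τ', hτ'⟩ := hP.exists_glue Vo' jv' hjv' hsur' (fun a => P.map (r' a).op (τ a))
      fun a b G c d hG hcd => by
        obtain ⟨y⟩ := hG.nonempty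
        refine (map_comp_apply' c (r' a) _).symm.trans (Eq.trans ?_ (map_comp_apply' d (r' b) _))
        refine hR a b ((c ≫ jv' a).left y) (c.left y).2
          (show (c ≫ jv' a).left y ∈ V' b by rw [hcd]; exact (d.left y).2) G _ _ hG ?_ fun q => ?_
        · rw [Category.assoc, Category.assoc, hr', hr', hcd]
        · rw [Category.assoc, hr', hG.subsingleton q y]
    have hag : ∀ (G : Over S) (c : G ⟶ Over.mk i) (d : G ⟶ T'), IsGeo G.left →
        P.map c.op σ = P.map d.op τ' := fun G c d hG => by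
      obtain ⟨y⟩ := hG.nonempty
      obtain ⟨a, q, hq⟩ := hsur' (d.left y)
      obtain ⟨d', rfl, -⟩ := exists_lift (jv' a) d hG q fun y' => by rw [hG.subsingleton y' y, hq]
      rw [map_comp_apply', hτ', ← map_comp_apply']
      exact hτ a G c _ hG
    let T'' : Over S := Over.mk (pullback.fst π π ≫ π)
    let q₁ : T'' ⟶ T' := Over.homMk (pullback.fst π π) rfl
    let q₂ : T'' ⟶ T' := Over.homMk (pullback.snd π π) pullback.condition.symm
    haveI : IsFinite (pullback.fst π π ≫ π) := inferInstance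
    have huniv : eqLocus T'' (P.map q₁.op τ') (P.map q₂.op τ') = Set.univ :=
      (h2 _ (pullback.fst π π ≫ π)).eq_univ (X := (pullback π π).carrier) (isOpen_eqLocus _ _ _) fun p hp => by
        obtain ⟨z, hz⟩ := hp
        obtain ⟨G, c, hG, hc⟩ := exists_geo_at T'' p
        obtain ⟨G', e, a', hG', -, -⟩ := exists_extension j (c ≫ toTop T'') hG z fun y' => by
          show T''.hom (c.left y') = i z
          rw [hc, hz]; rfl
        obtain ⟨y⟩ := hG.nonempty
        rw [← hc y]
        refine hP.mem_eqLocus c hG ?_ y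
        apply hP.injective e hG' hG
        rw [← map_comp_apply', ← map_comp_apply', ← map_comp_apply', ← map_comp_apply', ← hag G' a' _ hG',
          hag G' a' ((e ≫ c) ≫ q₂) hG']
    obtain ⟨s, hs, -⟩ := hP.descend (T := Over.mk (𝟙 S)) (ι := PUnit.{1}) (fun _ => toTop T')
      (fun z => ⟨PUnit.unit, π.surjective z⟩)
      (fun V v _ A hA => by
        let p := pullback.snd π v.left
        haveI : IsFinite p := MorphismProperty.pullback_snd (P := @IsFinite) _ _ ‹_›
        haveI : Surjective p := MorphismProperty.pullback_snd (P := @Surjective) _ _ ‹_›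
        exact (p.isClosedMap.isQuotientMap p.continuous p.surjective).isOpen_preimage.1 (hA PUnit.unit))
      (fun _ => τ') fun _ _ G a b hG _ => by
        let c : G ⟶ T'' := Over.homMk (pullback.lift a.left b.left ((Over.w a).trans (Over.w b).symm)) (by
          show _ ≫ pullback.fst π π ≫ π = _
          rw [pullback.lift_fst_assoc]
          exact Over.w a)
        obtain ⟨y⟩ := hG.nonempty
        have key := eq_of_mem_eqLocus (huniv.ge (Set.mem_univ (c.left y))) c hG fun y' => by rw [hG.subsingleton y' y]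
        rw [← map_comp_apply', ← map_comp_apply', show c ≫ q₁ = a from Over.OverMorphism.ext (pullback.lift_fst _ _ _),
          show c ≫ q₂ = b from Over.OverMorphism.ext (pullback.lift_snd _ _ _)] at key
        exact key
    refine ⟨s, hP.ext fun G a hG => ?_⟩
    obtain ⟨y⟩ := hG.nonempty
    obtain ⟨p, hp⟩ := π.surjective ((a ≫ j).left y)
    obtain ⟨G', e, a', hG', he, -⟩ := exists_extension (toTop T') (a ≫ j) hG p fun y' => by
      rw [hG.subsingleton y' y]; exact hp.symm
    apply hP.injective e hG' hG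
    refine Eq.trans ?_ ((hag G' (e ≫ a) a' hG').symm.trans (map_comp_apply' e a σ))
    rw [← map_comp_apply', ← map_comp_apply', toTop_eq ((e ≫ a) ≫ _) (a' ≫ toTop T'), map_comp_apply', hs PUnit.unit]

end EtH0Lib
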