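import Groth.Agent.EtH0Lib.Cover

/-!
# Sections of sheaves on a spectral space and on a closed subset meeting all closures of points connectedly
-/

set_option autoImplicit false
set_option linter.style.haveILetI false
set_option backward.isDefEq.respectTransparency false
universe u

open CategoryTheory CategoryTheory.Limits TopologicalSpace Opposite Topology

namespace EtH0Lib

variable {X : TopCat.{u}}

theorem bijOn_of_connected [SpectralSpace X] {Z : Set X} (hZ : IsClosed Z)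
    (hconn : ∀ x : X, IsConnected (Z ∩ closure {x})) : BijOn X Z := by
  intro F
  let f : TopCat.of Z ⟶ X := TopCat.ofHom ⟨(Subtype.val : Z → X), continuous_subtype_val⟩
  let G := (TopCat.Sheaf.pullback (Type u) f).obj F
  refine ⟨fun s t hst => ?_, fun s => ?_⟩
  · refine TopCat.Presheaf.section_ext F ⊤ _ _ fun y _ => ?_
    obtain ⟨z, hz, hzy⟩ := (hconn y).nonempty
    have h := (germ_pullSec_eq_iff f F ⟨z, hz⟩ ⊤ ⊤ trivial trivial s t).1
      (congrArg (TopCat.Presheaf.germ G.obj ⊤ (⟨z, hz⟩ : TopCat.of Z) trivial) hst)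
    obtain ⟨W, hzW, i, j, hij⟩ := TopCat.Presheaf.germ_eq (F := F.obj) (U := ⊤) (V := ⊤) z trivial trivial s t h
    have hyW : y ∈ W := (specializes_iff_mem_closure.2 hzy).mem_open W.2 hzW
    exact TopCat.Presheaf.germ_ext F.obj W hyW i j hij
  · -- local representatives
    have hrep : ∀ z : Z, ∃ (V : Opens X) (_ : z.1 ∈ V) (_ : IsCompact (V : Set X)) (t : F.obj.obj (op V)),
        ∀ (z' : Z) (hz' : z'.1 ∈ V),
          TopCat.Presheaf.germ G.obj ⊤ z' trivial s =
            TopCat.Presheaf.germ G.obj ((Opens.map f).obj V) z' hz' (pullSec f F V t) := fun z => by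
      obtain ⟨V, hV, t, h⟩ := exists_germ_pullSec f F z ⊤ trivial s
      obtain ⟨W, hzW, i, j, hij⟩ := TopCat.Presheaf.germ_eq (F := G.obj) (U := ⊤) (V := (Opens.map f).obj V) z trivial hV s (pullSec f F V t) h
      obtain ⟨O, hO, hOW⟩ := isOpen_induced_iff.1 W.2
      obtain ⟨B, ⟨hBo, hBc⟩, hzB, hBsub⟩ := PrespectralSpace.isTopologicalBasis.exists_subset_of_mem_open
        (a := z.1) (u := O ∩ (V : Set X)) ⟨(Set.ext_iff.1 hOW z).2 hzW, hV⟩ (hO.inter V.2)
      let i₀ : (⟨B, hBo⟩ : Opens X) ⟶ V := homOfLE fun y hy => (hBsub hy).2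
      refine ⟨⟨B, hBo⟩, hzB, hBc, F.obj.map i₀.op t, fun z' hz' => ?_⟩
      have hz'W : z' ∈ W := (Set.ext_iff.1 hOW z').1 (hBsub hz').1
      have hz'V : z'.1 ∈ V := (hBsub hz').2
      refine (TopCat.Presheaf.germ_ext (U := ⊤) (V := (Opens.map f).obj V) (hxU := trivial) (hxV := hz'V) G.obj W hz'W i j hij).trans ?_
      refine (germ_pullSec_eq_iff f F z' V ⟨B, hBo⟩ hz'V hz' t _).2 ?_
      exact (TopCat.Presheaf.germ_res_apply F.obj i₀ z'.1 hz' t).symm
    choose V hzV hVc t ht using hrep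
    obtain ⟨T, hT⟩ := hZ.isCompact.elim_finite_subcover (fun z : Z => (V z : Set X)) (fun z => (V z).2)
      fun z hz => Set.mem_iUnion.2 ⟨⟨z, hz⟩, hzV ⟨z, hz⟩⟩
    let D : Agreement X T :=
      { U := fun a => V a.1
        R := fun a b y => ∀ (ha : y ∈ V a.1) (hb : y ∈ V b.1),
          TopCat.Presheaf.germ F.obj (V a.1) y ha (t a.1) = TopCat.Presheaf.germ F.obj (V b.1) y hb (t b.1)
        isOpen := fun a b => isOpen_iff_forall_mem_open.2 fun y ⟨ha, hb, h⟩ => by
          obtain ⟨W, hyW, i, j, hij⟩ := TopCat.Presheaf.germ_eq (F := F.obj) y ha hb _ _ (h ha hb)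
          exact ⟨W, fun y' hy' => ⟨leOfHom i hy', leOfHom j hy', fun _ _ => TopCat.Presheaf.germ_ext F.obj W hy' i j hij⟩,
            W.2, hyW⟩
        refl := fun a y _ _ _ => rfl
        symm := fun a b y _ _ h ha hb => (h hb ha).symm
        trans := fun a b c y _ hb _ h h' ha hc => (h ha hb).trans (h' hb hc) }
    obtain ⟨V', hV', hcov, hR⟩ := D.spreads_of_connected hZ hconn (fun a => hVc a.1)
      ⟨fun z hz => by
        obtain ⟨a, ha, hza⟩ := Set.mem_iUnion₂.1 (hT hz)
        exact ⟨⟨a, ha⟩, hza⟩,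
       fun z hz a b ha hb _ _ => (germ_pullSec_eq_iff f F ⟨z, hz⟩ _ _ ha hb _ _).1
          ((ht a.1 ⟨z, hz⟩ ha).symm.trans (ht b.1 ⟨z, hz⟩ hb))⟩
    obtain ⟨r, hr, -⟩ := F.existsUnique_gluing' V' ⊤ (fun a => homOfLE le_top)
      (fun y _ => Opens.mem_iSup.2 (hcov y)) (fun a => F.obj.map (homOfLE (hV' a)).op (t a.1)) (fun a b => by
        refine TopCat.Presheaf.section_ext F _ _ _ fun y hy => ?_
        erw [TopCat.Presheaf.germ_res_apply, TopCat.Presheaf.germ_res_apply, TopCat.Presheaf.germ_res_apply,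
          TopCat.Presheaf.germ_res_apply]
        exact hR a b y hy.1 hy.2 (hV' a hy.1) (hV' b hy.2))
    refine ⟨r, TopCat.Presheaf.section_ext G ⊤ _ _ fun z _ => ?_⟩
    obtain ⟨a, ha⟩ := hcov z.1
    refine Eq.trans ?_ (ht a.1 z (hV' a ha)).symm
    refine (germ_pullSec_eq_iff f F z ⊤ (V a.1) trivial (hV' a ha) r (t a.1)).2 ?_
    have h1 := congrArg (TopCat.Presheaf.germ F.obj (V' a) z.1 ha) (hr a)
    erw [TopCat.Presheaf.germ_res_apply, TopCat.Presheaf.germ_res_apply] at h1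
    exact h1

end EtH0Lib
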